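import Mathlib

/-!
An automorphism `α` of prime order `r` not dividing `|G|` that fixes the centralizer of an
involution `τ` elementwise: if no nontrivial fixed element has its whole class fixed, then `τ` is
isolated.

The fixed subgroup `C` controls the fusion of `τ`, every `α`-invariant 2-subgroup lies in `C`, and
counting the pairs of conjugates of `τ` in the same coset of `C` gives that `τ` has no other
conjugate in `C`.
-/

set_option autoImplicit false
set_option linter.style.haveILetI false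
set_option linter.deprecated false

namespace CfsgLib.FixCent

open Subgroup

variable {G : Type*} [Group G]

/-- The fixed subgroup of `α`. -/
def fx (α : MulAut G) : Subgroup G where
  carrier := {g | α g = g}
  one_mem' := map_one α
  mul_mem' {a b} ha hb := by
    simp only [Set.mem_setOf_eq] at *
    rw [map_mul, ha, hb]
  inv_mem' {a} ha := by
    simp only [Set.mem_setOf_eq] at *
    rw [map_inv, ha]

theorem mem_fx {α : MulAut G} {g : G} : g ∈ fx α ↔ α g = g := Iff.rfl

/-- The elements that fix or invert `d`. -/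
def extCent (d : G) : Subgroup G where
  carrier := {x | x * d * x⁻¹ = d ∨ x * d * x⁻¹ = d⁻¹}
  one_mem' := Or.inl (by group)
  mul_mem' {a b} ha hb := by
    simp only [Set.mem_setOf_eq] at *
    have key : a * b * d * (a * b)⁻¹ = a * (b * d * b⁻¹) * a⁻¹ := by group
    have key2 : a * d⁻¹ * a⁻¹ = (a * d * a⁻¹)⁻¹ := by group
    rcases hb with hb | hb <;> rw [key, hb]
    · exact ha
    · rw [key2]
      rcases ha with ha | ha <;> rw [ha]
      · exact Or.inr rfl
      · exact Or.inl (inv_inv d)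
  inv_mem' {a} ha := by
    simp only [Set.mem_setOf_eq] at *
    rcases ha with ha | ha
    · refine Or.inl ?_
      conv_lhs => rw [← ha]
      group
    · refine Or.inr ?_
      have h2 : a * d⁻¹ * a⁻¹ = d := by
        rw [show a * d⁻¹ * a⁻¹ = (a * d * a⁻¹)⁻¹ by group, ha, inv_inv]
      conv_lhs => rw [← h2]
      group

variable [Finite G]

/-- If `α` moves `g` by a fixed element, it fixes `g`. -/
theorem fix_of_eq_mul {α : MulAut G} (hcop : (orderOf α).Coprime (Nat.card G)) {g c : G}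
    (hc : α c = c) (h : α g = g * c) : α g = g := by
  have hk : ∀ i : ℕ, (α ^ i) g = g * c ^ i := by
    intro i
    induction i with
    | zero => simp
    | succ i ih =>
      rw [pow_succ' α, MulAut.mul_apply, ih, map_mul, map_pow, h, hc, mul_assoc, ← pow_succ']
  have hm : c ^ orderOf α = 1 := by
    have := hk (orderOf α)
    rw [pow_orderOf_eq_one, MulAut.one_apply] at this
    exact left_eq_mul.1 this
  have hg : c ^ Nat.card G = 1 := pow_card_eq_one'
  have h1 := pow_gcd_eq_one.2 ⟨hm, hg⟩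
  rw [hcop.gcd_eq_one, pow_one] at h1
  rw [h, h1, mul_one]

section

variable {α : MulAut G} {τ : G}

theorem mem_of_conj (hcop : (orderOf α).Coprime (Nat.card G))
    (hC : centralizer ({τ} : Set G) ≤ fx α) (hτ : τ ∈ fx α) {g : G} (h : g * τ * g⁻¹ ∈ fx α) :
    g ∈ fx α := by
  rw [mem_fx, map_mul, map_mul, map_inv, mem_fx.1 hτ] at h
  have hc : g⁻¹ * α g ∈ centralizer ({τ} : Set G) := by
    rw [mem_centralizer_singleton_iff]
    calc g⁻¹ * α g * τ = g⁻¹ * (α g * τ * (α g)⁻¹) * α g := by group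
      _ = g⁻¹ * (g * τ * g⁻¹) * α g := by rw [h]
      _ = τ * (g⁻¹ * α g) := by group
  exact fix_of_eq_mul hcop (hC hc) (mul_inv_cancel_left g (α g)).symm

/-- `fx α` controls the fusion of the conjugates of `τ` that it contains. -/
theorem mem_of_conj_mem (hcop : (orderOf α).Coprime (Nat.card G))
    (hC : centralizer ({τ} : Set G) ≤ fx α) (hτ : τ ∈ fx α) {u x : G} (hu : IsConj τ u)
    (huC : u ∈ fx α) (h : x * u * x⁻¹ ∈ fx α) : x ∈ fx α := by
  obtain ⟨g, rfl⟩ := isConj_iff.1 hu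
  have hg := mem_of_conj hcop hC hτ huC
  have hx : x * g ∈ fx α := mem_of_conj hcop hC hτ
    (by simpa only [mul_inv_rev, ← mul_assoc] using h)
  exact (Subgroup.mul_mem_cancel_right _ hg).1 hx

/-- A Sylow 2-subgroup containing `τ` inside `fx α`. -/
theorem exists_sylow_le (hcop : (orderOf α).Coprime (Nat.card G))
    (hC : centralizer ({τ} : Set G) ≤ fx α) (hτ : τ ∈ fx α) (h2 : orderOf τ = 2) :
    ∃ S : Sylow 2 G, τ ∈ (S : Subgroup G) ∧ (S : Subgroup G) ≤ fx α := by
  haveI : Fact (Nat.Prime 2) := ⟨Nat.prime_two⟩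
  have hz : IsPGroup 2 (zpowers τ) := IsPGroup.of_card (n := 1) (by rw [Nat.card_zpowers, h2]; rfl)
  obtain ⟨S, ⟨hSp, hτS, hSC⟩, hmax⟩ :=
    (Set.toFinite {Q : Subgroup G | IsPGroup 2 Q ∧ τ ∈ Q ∧ Q ≤ fx α}).exists_maximal
      ⟨zpowers τ, hz, mem_zpowers τ, zpowers_le.2 hτ⟩
  obtain ⟨P, hSP⟩ := hSp.exists_le_sylow
  refine ⟨P, hSP hτS, ?_⟩
  by_contra hne
  have hlt : (P : Subgroup G) ⊓ fx α < (P : Subgroup G) :=
    lt_of_le_of_ne inf_le_left fun h => hne (h ▸ inf_le_right)
  set H := ((P : Subgroup G) ⊓ fx α).subgroupOf (P : Subgroup G) with hH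
  have hHtop : H < ⊤ := by
    refine lt_top_iff_ne_top.2 fun h => hlt.not_ge ?_
    exact subgroupOf_eq_top.1 h
  haveI : Group.IsNilpotent (P : Subgroup G) := P.2.isNilpotent
  have hn := Group.normalizerCondition_of_isNilpotent H hHtop
  obtain ⟨x, hxN, hxH⟩ := SetLike.exists_of_lt hn
  apply hxH
  rw [hH, mem_subgroupOf]
  refine ⟨x.2, ?_⟩
  have hτH : (⟨τ, hSP hτS⟩ : (P : Subgroup G)) ∈ H := by
    rw [hH, mem_subgroupOf]
    exact ⟨hSP hτS, hτ⟩
  have h3 := (mem_normalizer_iff.1 hxN _).1 hτH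
  rw [hH, mem_subgroupOf] at h3
  exact mem_of_conj hcop hC hτ h3.2

variable {r : ℕ}

theorem exists_invariant_sylow [hr : Fact r.Prime] (hα : α ^ r = 1) (hcop : r.Coprime (Nat.card G))
    (X : Subgroup G) (hX : ∀ x ∈ X, α x ∈ X) :
    ∃ Q : Sylow 2 X, ∀ x ∈ (Q : Subgroup X).map X.subtype,
      α x ∈ (Q : Subgroup X).map X.subtype := by
  haveI : Fact (Nat.Prime 2) := ⟨Nat.prime_two⟩
  have hmap : X.map (α : G ≃* G).toMonoidHom = X := by
    refine Subgroup.eq_of_le_of_card_ge ?_ ?_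
    · rintro _ ⟨x, hx, rfl⟩
      exact hX x hx
    · rw [Nat.card_congr (X.equivMapOfInjective (α : G ≃* G).toMonoidHom (α : G ≃* G).injective).toEquiv]
  let αX : MulAut X :=
    ((α : G ≃* G).subgroupMap X).trans (MulEquiv.subgroupCongr hmap)
  have hαX : ∀ x : X, ((αX x : X) : G) = α x := fun x => rfl
  have hpow : ∀ (i : ℕ) (x : X), (((αX ^ i) x : X) : G) = (α ^ i) (x : G) := by
    intro i
    induction i with
    | zero => intro x; rfl
    | succ i ih =>
      intro x
      rw [pow_succ', pow_succ', MulAut.mul_apply, MulAut.mul_apply, hαX, ih]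
  have hr1 : αX ^ r = 1 := by
    ext x
    rw [hpow, hα]
    rfl
  haveI : Fintype (Sylow 2 X) := Fintype.ofFinite _
  have hdvd : ¬ r ∣ Fintype.card (Sylow 2 X) := by
    rw [← Nat.card_eq_fintype_card]
    intro h
    obtain ⟨S⟩ := (inferInstance : Nonempty (Sylow 2 X))
    have h2 : r ∣ Nat.card G :=
      h.trans ((Sylow.card_dvd_index S).trans ((Subgroup.index_dvd_card _).trans
        (Subgroup.card_subgroup_dvd_card X)))
    exact hr.out.coprime_iff_not_dvd.1 hcop h2
  obtain ⟨Q, hQ⟩ := Equiv.Perm.exists_fixed_point_of_prime (n := 1) hdvd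
    (σ := (MulAction.toPermHom (MulAut X) (Sylow 2 X) αX)) (by rw [pow_one, ← map_pow, hr1, map_one])
  refine ⟨Q, ?_⟩
  rintro _ ⟨x, hx, rfl⟩
  refine ⟨αX x, ?_, rfl⟩
  have h4 : αX • x ∈ ((αX • Q : Sylow 2 X) : Subgroup X) := by
    exact Subgroup.smul_mem_pointwise_smul x αX _ hx
  have h5 : αX • Q = Q := hQ
  rw [h5] at h4
  exact h4

/-- Every invariant 2-subgroup is fixed elementwise. -/
theorem le_fx [hr : Fact r.Prime] (hord : orderOf α = r) (hcop : r.Coprime (Nat.card G))
    (hC : centralizer ({τ} : Set G) ≤ fx α) (hτ : τ ∈ fx α) (h2 : orderOf τ = 2)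
    (Q : Subgroup G) (hQp : IsPGroup 2 Q) (hQ : ∀ x ∈ Q, α x ∈ Q) : Q ≤ fx α := by
  haveI : Fact (Nat.Prime 2) := ⟨Nat.prime_two⟩
  have hcop' : (orderOf α).Coprime (Nat.card G) := hord ▸ hcop
  have hαr : α ^ r = 1 := hord ▸ pow_orderOf_eq_one α
  obtain ⟨P, ⟨hPp, hQP, hPi⟩, hmax⟩ :=
    (Set.toFinite {P : Subgroup G | IsPGroup 2 P ∧ Q ≤ P ∧ ∀ x ∈ P, α x ∈ P}).exists_maximal
      ⟨Q, hQp, le_rfl, hQ⟩
  set N := normalizer (P : Set G) with hN
  have hsur : ∀ y ∈ P, ∃ x ∈ P, α x = y := by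
    intro y hy
    have hmap : P.map (α : G ≃* G).toMonoidHom = P := by
      refine Subgroup.eq_of_le_of_card_ge ?_ ?_
      · rintro _ ⟨x, hx, rfl⟩
        exact hPi x hx
      · rw [Nat.card_congr (P.equivMapOfInjective (α : G ≃* G).toMonoidHom (α : G ≃* G).injective).toEquiv]
    rw [← hmap] at hy
    obtain ⟨x, hx, rfl⟩ := hy
    exact ⟨x, hx, rfl⟩
  have hNi : ∀ x ∈ N, α x ∈ N := by
    intro x hx
    rw [hN, mem_normalizer_iff]
    intro y
    constructor
    · intro hy
      obtain ⟨z, hz, rfl⟩ := hsur y hy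
      rw [← map_inv, ← map_mul, ← map_mul]
      exact hPi _ ((mem_normalizer_iff.1 hx z).1 hz)
    · intro hy
      obtain ⟨z, hz, he⟩ := hsur _ hy
      have : y = α (x⁻¹ * z * x) := by
        rw [map_mul, map_mul, map_inv, he]
        group
      rw [this]
      refine hPi _ ((mem_normalizer_iff.1 hx _).2 ?_)
      rw [show x * (x⁻¹ * z * x) * x⁻¹ = z by group]
      exact hz
  obtain ⟨T, hT⟩ := exists_invariant_sylow hαr hcop N hNi
  have hPN : P ≤ N := le_normalizer
  haveI : (P.subgroupOf N).Normal := normal_in_normalizer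
  have hPT : P ≤ (T : Subgroup N).map N.subtype := by
    intro x hx
    refine ⟨⟨x, hPN hx⟩, ?_, rfl⟩
    exact IsPGroup.le_sylow_of_normal (N := P.subgroupOf N)
      (hPp.comap_of_injective N.subtype Subtype.val_injective) T (mem_subgroupOf.2 hx)
  have hTP : (T : Subgroup N).map N.subtype = P :=
    le_antisymm (hmax ⟨T.2.map _, hQP.trans hPT, hT⟩ hPT) hPT
  obtain ⟨P', hPP'⟩ := hPp.exists_le_sylow
  have hPeq : P = (P' : Subgroup G) := by
    by_contra hne
    have hlt : P < (P' : Subgroup G) := lt_of_le_of_ne hPP' hne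
    have hHtop : P.subgroupOf (P' : Subgroup G) < ⊤ :=
      lt_top_iff_ne_top.2 fun h => hlt.not_ge (subgroupOf_eq_top.1 h)
    haveI : Group.IsNilpotent (P' : Subgroup G) := P'.2.isNilpotent
    obtain ⟨x, hxN, hxH⟩ :=
      SetLike.exists_of_lt (Group.normalizerCondition_of_isNilpotent _ hHtop)
    have hxN' : (x : G) ∈ N := by
      rw [hN, mem_normalizer_iff]
      intro y
      constructor
      · intro hy
        exact mem_subgroupOf.1 ((mem_normalizer_iff.1 hxN ⟨y, hPP' hy⟩).1 (mem_subgroupOf.2 hy))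
      · intro hy
        have hyP : y ∈ (P' : Subgroup G) := by
          have := mul_mem (mul_mem (inv_mem x.2) (hPP' hy)) x.2
          rwa [show (x : G)⁻¹ * ((x : G) * y * (x : G)⁻¹) * (x : G) = y by group] at this
        exact mem_subgroupOf.1
          ((mem_normalizer_iff.1 hxN ⟨y, hyP⟩).2 (mem_subgroupOf.2 hy))
    have hcl : IsPGroup 2 ((N ⊓ (P' : Subgroup G)).subgroupOf N) :=
      (P'.2.to_le inf_le_right).comap_of_injective N.subtype Subtype.val_injective
    have hle : (T : Subgroup N) ≤ (N ⊓ (P' : Subgroup G)).subgroupOf N := by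
      intro t ht
      exact mem_subgroupOf.2 ⟨t.2, hPP' (hTP ▸ mem_map_of_mem _ ht)⟩
    have heq := T.3 hcl hle
    apply hxH
    rw [mem_subgroupOf, ← hTP]
    refine ⟨⟨(x : G), hxN'⟩, ?_, rfl⟩
    rw [← heq]
    exact mem_subgroupOf.2 ⟨hxN', x.2⟩
  obtain ⟨S, hτS, hSC⟩ := exists_sylow_le hcop' hC hτ h2
  obtain ⟨g, hg⟩ := MulAction.exists_smul_eq G S P'
  have hmem : ∀ y : G, y ∈ P ↔ g⁻¹ * y * g ∈ (S : Subgroup G) := by
    intro y
    rw [hPeq, ← hg, Sylow.coe_subgroup_smul, Subgroup.mem_pointwise_smul_iff_inv_smul_mem]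
    simp [MulAut.smul_def]
  have hgC : g ∈ fx α := by
    have hx : g⁻¹ * α g * τ * (g⁻¹ * α g)⁻¹ ∈ fx α := by
      have h1 : g * τ * g⁻¹ ∈ P := (hmem _).2 (by
        rw [show g⁻¹ * (g * τ * g⁻¹) * g = τ by group]; exact hτS)
      have h3 := (hmem _).1 (hPi _ h1)
      rw [map_mul, map_mul, map_inv, mem_fx.1 hτ] at h3
      have h4 := hSC h3
      simpa only [mul_inv_rev, inv_inv, ← mul_assoc] using h4
    have := mem_of_conj hcop' hC hτ hx
    exact fix_of_eq_mul hcop' this (mul_inv_cancel_left g (α g)).symm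
  intro y hy
  have h5 := hSC ((hmem y).1 (hQP hy))
  have h6 := mul_mem (mul_mem hgC h5) (inv_mem hgC)
  rwa [show g * (g⁻¹ * y * g) * g⁻¹ = y by group] at h6

/-- If `u` and `ud` are conjugates of `τ` and `d` is fixed then a conjugate of `u` under an
element centralizing `d` is fixed. -/
theorem exists_conj_fixed [hr : Fact r.Prime] (hord : orderOf α = r) (hcop : r.Coprime (Nat.card G))
    (hC : centralizer ({τ} : Set G) ≤ fx α) (hτ : τ ∈ fx α) (h2 : orderOf τ = 2)
    {u d : G} (hd : d ∈ fx α) (hu : IsConj τ u) (hud : IsConj τ (u * d)) :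
    ∃ y : G, y * d = d * y ∧ y⁻¹ * u * y ∈ fx α := by
  haveI : Fact (Nat.Prime 2) := ⟨Nat.prime_two⟩
  have hsq : ∀ v : G, IsConj τ v → v * v = 1 := by
    intro v hv
    obtain ⟨g, rfl⟩ := isConj_iff.1 hv
    have h : τ * τ = 1 := by rw [← sq, ← h2]; exact pow_orderOf_eq_one τ
    rw [show g * τ * g⁻¹ * (g * τ * g⁻¹) = g * (τ * τ) * g⁻¹ by group, h]
    group
  have huinv : u⁻¹ = u := inv_eq_of_mul_eq_one_right (hsq u hu)
  have hinv : u * d * u⁻¹ = d⁻¹ := by
    rw [huinv, ← mul_eq_one_iff_eq_inv]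
    have := hsq _ hud
    simpa only [mul_assoc] using this
  have hXi : ∀ x ∈ extCent d, α x ∈ extCent d := by
    intro x hx
    rcases hx with hx | hx
    · refine Or.inl ?_
      have := congrArg α hx
      rwa [map_mul, map_mul, map_inv, mem_fx.1 hd] at this
    · refine Or.inr ?_
      have := congrArg α hx
      rwa [map_mul, map_mul, map_inv, map_inv, mem_fx.1 hd] at this
  have huX : u ∈ extCent d := Or.inr hinv
  obtain ⟨Q, hQ⟩ := exists_invariant_sylow (hord ▸ pow_orderOf_eq_one α) hcop _ hXi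
  have hzu : IsPGroup 2 (zpowers (⟨u, huX⟩ : extCent d)) := by
    refine IsPGroup.of_card (n := 1) ?_
    rw [Nat.card_zpowers, Subgroup.orderOf_mk, pow_one]
    obtain ⟨g, rfl⟩ := isConj_iff.1 hu
    rw [← MulAut.conj_apply, MulEquiv.orderOf_eq, h2]
  obtain ⟨R, hR⟩ := hzu.exists_le_sylow
  obtain ⟨x, hx⟩ := MulAction.exists_smul_eq (extCent d) Q R
  have hmemR : (⟨u, huX⟩ : extCent d) ∈ (R : Subgroup (extCent d)) := hR (mem_zpowers _)
  rw [← hx, Sylow.coe_subgroup_smul, Subgroup.mem_pointwise_smul_iff_inv_smul_mem] at hmemR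
  have hQle := le_fx (τ := τ) hord hcop hC hτ h2 _ (Q.2.map (extCent d).subtype) hQ
  have hv : (x : G)⁻¹ * u * (x : G) ∈ fx α := by
    have := hQle (mem_map_of_mem (extCent d).subtype hmemR)
    simpa [MulAut.smul_def] using this
  rcases x.2 with hxd | hxd
  · exact ⟨x, mul_inv_eq_iff_eq_mul.1 hxd, hv⟩
  · refine ⟨(x : G) * ((x : G)⁻¹ * u * (x : G)), ?_, ?_⟩
    · rw [show (x : G) * ((x : G)⁻¹ * u * (x : G)) = u * (x : G) by group]
      have h7 : u * ((x : G) * d * (x : G)⁻¹) * u⁻¹ = d := by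
        rw [hxd, show u * d⁻¹ * u⁻¹ = (u * d * u⁻¹)⁻¹ by group, hinv, inv_inv]
      calc u * (x : G) * d = u * ((x : G) * d * (x : G)⁻¹) * u⁻¹ * (u * (x : G)) := by group
        _ = d * (u * (x : G)) := by rw [h7]
    · rw [show ((x : G) * ((x : G)⁻¹ * u * (x : G)))⁻¹ * u * ((x : G) * ((x : G)⁻¹ * u * (x : G)))
        = (x : G)⁻¹ * u⁻¹ * u * u * (x : G) by group, inv_mul_cancel_right]
      exact hv

end

open Finset in
/-- `τ` has no other conjugate in `fx α`. -/
theorem eq_of_isConj_mem {α : MulAut G} {τ : G} {r : ℕ} [hr : Fact r.Prime]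
    (hord : orderOf α = r) (hcop : r.Coprime (Nat.card G))
    (hC : centralizer ({τ} : Set G) ≤ fx α) (h2 : orderOf τ = 2)
    (hcore : ∀ d ∈ fx α, (∀ g : G, g * d * g⁻¹ ∈ fx α) → d = 1)
    {v : G} (hv : IsConj τ v) (hvC : v ∈ fx α) : v = τ := by
  classical
  haveI : Fintype G := Fintype.ofFinite G
  have hcop' : (orderOf α).Coprime (Nat.card G) := hord ▸ hcop
  have hτ : τ ∈ fx α := hC (mem_centralizer_singleton_iff.2 rfl)
  haveI : Fintype (G ⧸ fx α) := Fintype.ofFinite _
  set K : Finset G := univ.filter fun u => IsConj τ u with hK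
  set KC : Finset G := K.filter fun u => u ∈ fx α with hKC
  set n := Fintype.card (G ⧸ fx α) with hn
  set D : Finset G := univ.filter fun d => d ∈ fx α with hD
  let NG : G → ℕ := fun d => (K.filter fun u => u * d ∈ K).card
  let NC : G → ℕ := fun d => (KC.filter fun u => u * d ∈ K).card
  have hbound : ∀ d ∈ fx α, ∀ R : Finset (G ⧸ fx α),
      (∀ y : G, y * d = d * y → (y : G ⧸ fx α) ∈ R) → NG d ≤ R.card * NC d := by
    intro d hd R hR
    let s : G ⧸ fx α → G := fun q =>
      if h : ∃ y : G, y * d = d * y ∧ (y : G ⧸ fx α) = q then h.choose else 1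
    have hs : K.filter (fun u => u * d ∈ K) ⊆
        (R ×ˢ KC.filter (fun u => u * d ∈ K)).image fun p => s p.1 * p.2 * (s p.1)⁻¹ := by
      intro u hu
      simp only [Finset.mem_filter, hK, Finset.mem_univ, true_and] at hu
      obtain ⟨y, hyd, hyu⟩ := exists_conj_fixed hord hcop hC hτ h2 hd hu.1 hu.2
      have hex : ∃ y' : G, y' * d = d * y' ∧ (y' : G ⧸ fx α) = y := ⟨y, hyd, rfl⟩
      have hs1 : s y = hex.choose := dif_pos hex
      obtain ⟨hc1, hc2⟩ := hex.choose_spec
      rw [← hs1] at hc1 hc2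
      refine Finset.mem_image.2 ⟨((y : G ⧸ fx α), (s y)⁻¹ * u * s y), ?_, by group⟩
      refine Finset.mem_product.2 ⟨hR y hyd, ?_⟩
      have hconj : ∀ w : G, IsConj τ w → IsConj τ ((s y)⁻¹ * w * s y) := fun w hw =>
        hw.trans (isConj_iff.2 ⟨(s y)⁻¹, by rw [inv_inv]⟩)
      simp only [hKC, hK, Finset.mem_filter, Finset.mem_univ, true_and]
      refine ⟨⟨hconj u hu.1, ?_⟩, ?_⟩
      · have hc : y⁻¹ * s y ∈ fx α := QuotientGroup.eq.1 hc2.symm
        have := mul_mem (mul_mem (inv_mem hc) hyu) hc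
        rwa [show (y⁻¹ * s y)⁻¹ * (y⁻¹ * u * y) * (y⁻¹ * s y) = (s y)⁻¹ * u * s y by group] at this
      · rw [show (s y)⁻¹ * u * s y * d = (s y)⁻¹ * (u * d) * s y by
          rw [mul_assoc, hc1]; group]
        exact hconj _ hu.2
    calc NG d ≤ _ := Finset.card_le_card hs
      _ ≤ _ := Finset.card_image_le
      _ = R.card * NC d := Finset.card_product _ _
  have hone : NG 1 = K.card := by
    simp only [NG, mul_one, Finset.filter_true_of_mem (fun u (h : u ∈ K) => h)]
  have honeC : NC 1 = KC.card := by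
    simp only [NC, mul_one]
    exact congrArg Finset.card
      (Finset.filter_true_of_mem fun u h => (Finset.mem_filter.1 h).1)
  have hKle : K.card ≤ n * KC.card := by
    have := hbound 1 (one_mem _) univ fun _ _ => Finset.mem_univ _
    rwa [hone, honeC, Finset.card_univ] at this
  have hKge : n * KC.card ≤ K.card := by
    rw [hn, ← Finset.card_univ, ← Finset.card_product]
    refine Finset.card_le_card_of_injOn (fun p => p.1.out * p.2 * p.1.out⁻¹) ?_ ?_
    · rintro ⟨q, w⟩ hp
      simp only [Finset.coe_product, Set.mem_prod, Finset.coe_univ, Set.mem_univ, true_and,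
        Finset.mem_coe, hKC, hK, Finset.mem_filter, Finset.mem_univ] at hp ⊢
      exact hp.1.trans (isConj_iff.2 ⟨q.out, rfl⟩)
    · rintro ⟨q, w⟩ hp ⟨q', w'⟩ hp' he
      simp only [Finset.coe_product, Set.mem_prod, Finset.coe_univ, Set.mem_univ, true_and,
        Finset.mem_coe, hKC, hK, Finset.mem_filter, Finset.mem_univ] at hp hp'
      simp only at he
      have hm : q'.out⁻¹ * q.out * w * (q'.out⁻¹ * q.out)⁻¹ = w' := by
        calc q'.out⁻¹ * q.out * w * (q'.out⁻¹ * q.out)⁻¹
            = q'.out⁻¹ * (q.out * w * q.out⁻¹) * q'.out := by group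
          _ = q'.out⁻¹ * (q'.out * w' * q'.out⁻¹) * q'.out := by rw [he]
          _ = w' := by group
      have hc := mem_of_conj_mem hcop' hC hτ hp.1 hp.2 (hm.symm ▸ hp'.2)
      have hq : q' = q := by
        have := QuotientGroup.eq.2 hc
        rwa [QuotientGroup.out_eq', QuotientGroup.out_eq'] at this
      subst hq
      refine Prod.ext rfl ?_
      simpa using he
  have hsumC : ∑ d ∈ D, NC d = KC.card * KC.card := by
    simp only [NC, Finset.card_filter]
    rw [Finset.sum_comm, show KC.card * KC.card = ∑ _u ∈ KC, KC.card by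
      rw [Finset.sum_const, smul_eq_mul]]
    refine Finset.sum_congr rfl fun u hu => ?_
    rw [← Finset.card_filter]
    have hu' : u ∈ fx α := (Finset.mem_filter.1 hu).2
    refine Finset.card_nbij' (fun d => u * d) (fun w => u⁻¹ * w) ?_ ?_ ?_ ?_
    · intro d hd
      simp only [Finset.mem_coe, Finset.mem_filter, hKC] at hd ⊢
      exact ⟨hd.2, mul_mem hu' (Finset.mem_filter.1 hd.1).2⟩
    · intro w hw
      simp only [Finset.mem_coe, Finset.mem_filter, hKC] at hw ⊢
      refine ⟨?_, by rw [mul_inv_cancel_left]; exact hw.1⟩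
      rw [hD, Finset.mem_filter]
      exact ⟨Finset.mem_univ _, mul_mem (inv_mem hu') hw.2⟩
    · intro d _
      exact inv_mul_cancel_left u d
    · intro w _
      exact mul_inv_cancel_left u w
  let e : G ⧸ fx α → ℕ := fun q => (K.filter fun u : G => (u : G ⧸ fx α) = q).card
  have hsumG : ∑ d ∈ D, NG d = ∑ q, e q ^ 2 := by
    simp only [NG, Finset.card_filter]
    rw [Finset.sum_comm, ← Finset.sum_fiberwise K (fun u : G => (u : G ⧸ fx α))]
    refine Finset.sum_congr rfl fun q _ => ?_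
    rw [show e q ^ 2 = ∑ _u ∈ K.filter (fun u : G => (u : G ⧸ fx α) = q), e q by
      rw [Finset.sum_const, smul_eq_mul, sq]]
    refine Finset.sum_congr rfl fun u hu => ?_
    rw [← Finset.card_filter]
    have huq : (u : G ⧸ fx α) = q := (Finset.mem_filter.1 hu).2
    refine Finset.card_nbij' (fun d => u * d) (fun w => u⁻¹ * w) ?_ ?_ ?_ ?_
    · intro d hd
      simp only [Finset.mem_coe, Finset.mem_filter, hD, Finset.mem_univ, true_and] at hd ⊢
      exact ⟨hd.2, by rw [QuotientGroup.mk_mul_of_mem u hd.1, huq]⟩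
    · intro w hw
      simp only [Finset.mem_coe, Finset.mem_filter, hD, Finset.mem_univ, true_and] at hw ⊢
      exact ⟨QuotientGroup.eq.1 (huq.trans hw.2.symm), by rw [mul_inv_cancel_left]; exact hw.1⟩
    · intro d _
      exact inv_mul_cancel_left u d
    · intro w _
      exact mul_inv_cancel_left u w
  have he : ∑ q, e q = K.card := (Finset.card_eq_sum_card_fiberwise fun u _ => Finset.mem_univ _).symm
  have hcs : K.card ^ 2 ≤ n * ∑ q, e q ^ 2 := by
    rw [← he, hn, ← Finset.card_univ]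
    exact sq_sum_le_card_mul_sum_sq
  have hlt : ∀ d ∈ D.erase 1, NG d ≤ (n - 1) * NC d := by
    intro d hd
    rw [hD, Finset.mem_erase, Finset.mem_filter] at hd
    obtain ⟨hd1, -, hdC⟩ := hd
    set R : Finset (G ⧸ fx α) := (univ.filter fun y : G => y * d = d * y).image fun y : G => (y : G ⧸ fx α)
      with hR
    have hne : R ≠ univ := by
      intro hall
      apply hd1
      refine hcore d hdC fun g => ?_
      have hg : ((g⁻¹ : G) : G ⧸ fx α) ∈ R := hall ▸ Finset.mem_univ _
      rw [hR, Finset.mem_image] at hg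
      obtain ⟨y, hy, hyg⟩ := hg
      have hy' : y * d = d * y := (Finset.mem_filter.1 hy).2
      have hc : g⁻¹⁻¹ * y ∈ fx α := QuotientGroup.eq.1 hyg.symm
      rw [inv_inv] at hc
      have := mul_mem (mul_mem hc hdC) (inv_mem hc)
      rwa [show g * y * d * (g * y)⁻¹ = g * (y * d * y⁻¹) * g⁻¹ by group,
        mul_inv_eq_iff_eq_mul.2 hy'] at this
    have hcard : R.card < n :=
      lt_of_le_of_ne (Finset.card_le_univ R) fun h => hne (Finset.eq_univ_of_card R h)
    refine (hbound d hdC R fun y hy => ?_).trans (Nat.mul_le_mul_right _ (by omega))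
    exact Finset.mem_image_of_mem _ (Finset.mem_filter.2 ⟨Finset.mem_univ _, hy⟩)
  have hD1 : (1 : G) ∈ D := by rw [hD, Finset.mem_filter]; exact ⟨Finset.mem_univ _, one_mem _⟩
  have hKeq : K.card = n * KC.card := le_antisymm hKle hKge
  have h1 := Finset.add_sum_erase D NG hD1
  have h3 := Finset.add_sum_erase D NC hD1
  rw [hone, hsumG] at h1
  rw [honeC, hsumC] at h3
  have h4 : ∑ d ∈ D.erase 1, NG d ≤ (n - 1) * ∑ d ∈ D.erase 1, NC d := by
    rw [Finset.mul_sum]
    exact Finset.sum_le_sum hlt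
  have hnpos : 1 ≤ n := Fintype.card_pos
  obtain ⟨m, hm⟩ : ∃ m, n = m + 1 := ⟨n - 1, by omega⟩
  set a := ∑ d ∈ D.erase 1, NC d
  set b := ∑ d ∈ D.erase 1, NG d
  set k := KC.card with hk
  rw [← h1, hKeq, hm] at hcs
  rw [hm, Nat.add_sub_cancel] at h4
  have hka : a = 0 := by
    have h5 : (m + 1) * ((m + 1) * (k * k)) ≤ (m + 1) * ((m + 1) * k + b) := by
      calc (m + 1) * ((m + 1) * (k * k)) = ((m + 1) * k) ^ 2 := by ring
        _ ≤ _ := hcs
    have h6 := Nat.le_of_mul_le_mul_left h5 (Nat.succ_pos m)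
    nlinarith
  have hk1 : k ≤ 1 := by
    rw [hka] at h3
    nlinarith
  have hτK : τ ∈ KC := by
    rw [hKC, hK, Finset.mem_filter, Finset.mem_filter]
    exact ⟨⟨Finset.mem_univ _, IsConj.refl τ⟩, hτ⟩
  have hvK : v ∈ KC := by
    rw [hKC, hK, Finset.mem_filter, Finset.mem_filter]
    exact ⟨⟨Finset.mem_univ _, hv⟩, hvC⟩
  exact Finset.card_le_one.1 (hk ▸ hk1) v hvK τ hτK

end CfsgLib.FixCent
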